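import Groth.Agent.Surf.K460.ZProj

/-!
# Node DIV of the case `d = 1` of S15911 (pure algebra)

`false_of_dvd`: an element `M = y^m (r(x/y) ζ + q(x/y))` of degree `m ≤ 4` with `r ≠ 0` does not divide a product
`u₁ u₂` with `u_i = y^6 (n_i + ω s_i)`, `s_i ≠ 0`.
-/

set_option autoImplicit false

namespace K674.ZDiv

open Polynomial Groth.Agent.Surf.K460.PicZ Groth.Agent.Surf.K460.PicZ.Gr

theorem exists_linear_mul {k : Type*} [Field k] [IsAlgClosed k] (q : k[X]) (hq : q.natDegree ≤ 2) :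
    ∃ a b c d : k, q = (C a * X + C b) * (C c * X + C d) := by
  by_cases h : q.natDegree ≤ 1
  · refine ⟨q.coeff 1, q.coeff 0, 0, 1, ?_⟩
    conv_lhs => rw [eq_X_add_C_of_natDegree_le_one h]
    simp
  · have h2 : q.natDegree = 2 := by omega
    have hq0 : q ≠ 0 := by
      rintro rfl
      simp at h2
    obtain ⟨a, ha⟩ := IsAlgClosed.exists_root q (by
      rw [degree_eq_natDegree hq0, h2]
      norm_num)
    obtain ⟨s, hs⟩ := dvd_iff_isRoot.2 ha
    have hs0 : s ≠ 0 := by
      rintro rfl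
      exact hq0 (by rw [hs, mul_zero])
    have hs1 : s.natDegree ≤ 1 := by
      have := natDegree_mul (X_sub_C_ne_zero a) hs0
      rw [← hs, natDegree_X_sub_C, h2] at this
      omega
    refine ⟨1, -a, s.coeff 1, s.coeff 0, ?_⟩
    rw [← eq_X_add_C_of_natDegree_le_one hs1, hs, C_1, one_mul, C_neg, sub_eq_add_neg]

theorem natDegree_lin {k : Type*} [Field k] {r q : k[X]} (hr : r ≠ 0) :
    (C r * X + C q : k[X][X]).natDegree = 1 := natDegree_linear hr

theorem lin_ne_zero {k : Type*} [Field k] {r q : k[X]} (hr : r ≠ 0) : (C r * X + C q : k[X][X]) ≠ 0 := by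
  intro h
  have := natDegree_lin (q := q) hr
  rw [h, natDegree_zero] at this
  exact zero_ne_one this

theorem false_of_dvd_aux {k L : Type*} [Field k] [IsAlgClosed k] [Field L] [Algebra k L] {G : Gr k L}
    {x y : L} (hx : x ∈ G.V 1) (hy : y ∈ G.V 1) (hy0 : y ≠ 0) (ζ ω : L)
    (h1 : ∀ f ∈ G.V 1, ∃ a b : k, f = a • x + b • y)
    (h2 : ∀ f ∈ G.V 2, ∃ (c : k) (q : k[X]), q.natDegree ≤ 2 ∧ f = y ^ 2 * ev k ζ (x / y) (C (C c) * X + C q))
    (hspan : ∀ (n : ℤ), ∀ f ∈ G.V n, ∃ p q : k[X][X], f = y ^ n * (ev k ζ (x / y) p + ω * ev k ζ (x / y) q))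
    (hinj : ∀ p q : k[X][X], ev k ζ (x / y) p + ω * ev k ζ (x / y) q = 0 → p = 0 ∧ q = 0)
    {u₁ u₂ : L} (h₁ : u₁ ∈ G.V 6) (h₂ : u₂ ∈ G.V 6) (n₁ n₂ s₁ s₂ : k[X]) (hs₁ : s₁ ≠ 0) (hs₂ : s₂ ≠ 0)
    (hu₁ : u₁ = y ^ 6 * (ev k ζ (x / y) (C n₁) + ω * ev k ζ (x / y) (C s₁)))
    (hu₂ : u₂ = y ^ 6 * (ev k ζ (x / y) (C n₂) + ω * ev k ζ (x / y) (C s₂))) (m : ℕ) :
    m ≤ 4 → ∀ (M : L), M ∈ G.V m → ∀ (r q : k[X]), r ≠ 0 →
      M = y ^ (m : ℤ) * ev k ζ (x / y) (C r * X + C q) → u₁ * u₂ / M ∈ G.V (12 - m) → False := by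
  have ev_inj : ∀ p q : k[X][X], ev k ζ (x / y) p = ev k ζ (x / y) q → p = q := by
    intro p q h
    exact sub_eq_zero.1 (hinj (p - q) 0 (by rw [map_sub, h, map_zero, mul_zero, sub_self, add_zero])).1
  have pair_inj : ∀ p q p' q' : k[X][X], ev k ζ (x / y) p + ω * ev k ζ (x / y) q =
      ev k ζ (x / y) p' + ω * ev k ζ (x / y) q' → p = p' ∧ q = q' := by
    intro p q p' q' h
    have := hinj (p - p') (q - q') (by rw [map_sub, map_sub]; linear_combination h)
    exact ⟨sub_eq_zero.1 this.1, sub_eq_zero.1 this.2⟩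
  have lin1 : ∀ a b : k, a • x + b • y = y * ev k ζ (x / y) (C (C a * X + C b)) := by
    intro a b
    rw [ev_C, map_add, map_mul, aeval_C, aeval_C, aeval_X, Algebra.smul_def, Algebra.smul_def]
    field_simp
  -- the quotients of `u₁`, `u₂`
  have nodiv : ∀ (m : ℤ) (M : L) (r q : k[X]), r ≠ 0 → M = y ^ m * ev k ζ (x / y) (C r * X + C q) → M ≠ 0 →
      ∀ (u : L) (n s : k[X]), s ≠ 0 → u = y ^ 6 * (ev k ζ (x / y) (C n) + ω * ev k ζ (x / y) (C s)) →
      u / M ∉ G.V (6 - m) := by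
    intro m M r q hr hM hM0 u n s hs hu hmem
    obtain ⟨p, q', hpq⟩ := hspan _ _ hmem
    have e1 : u = M * (y ^ (6 - m) * (ev k ζ (x / y) p + ω * ev k ζ (x / y) q')) := by
      rw [← hpq, mul_div_cancel₀ _ hM0]
    have e2 : y ^ m * y ^ (6 - m) = y ^ 6 := by
      rw [← zpow_add₀ hy0, add_sub_cancel]
      norm_cast
    have e3 : ev k ζ (x / y) (C n) + ω * ev k ζ (x / y) (C s) =
        ev k ζ (x / y) ((C r * X + C q) * p) + ω * ev k ζ (x / y) ((C r * X + C q) * q') := by
      have hy6 : y ^ 6 ≠ 0 := pow_ne_zero _ hy0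
      apply mul_left_cancel₀ hy6
      rw [← hu, e1, hM, ← e2, map_mul, map_mul]
      ring
    have e4 := (pair_inj _ _ _ _ e3).2
    by_cases hq' : q' = 0
    · rw [hq', mul_zero] at e4
      exact hs (C_eq_zero.1 e4)
    · have := congrArg natDegree e4
      rw [natDegree_mul (lin_ne_zero hr) hq', natDegree_lin hr, natDegree_C] at this
      omega
  induction m with
  | zero =>
    intro _ M hM r q hr hMr _
    obtain ⟨c, hc⟩ := G.mem_zero M (by simpa using hM)
    have h : ev k ζ (x / y) (C r * X + C q) = ev k ζ (x / y) (C (C c)) := by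
      rw [ev_C, aeval_C, ← hc, hMr]
      simp
    have := congrArg natDegree (ev_inj _ _ h)
    rw [natDegree_lin hr, natDegree_C] at this
    exact one_ne_zero this
  | succ m ih =>
    intro hm M hM r q hr hMr hdvd
    have hM0 : M ≠ 0 := by
      intro h
      rw [hMr, mul_eq_zero] at h
      rcases h with h | h
      · exact zpow_ne_zero _ hy0 h
      · exact lin_ne_zero hr (ev_inj _ 0 (by rw [h, map_zero]))
    -- one step: a factor of degree one
    have step : ∀ a b : L, a ∈ G.V 1 → b ∈ G.V m → M = a * b → False := by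
      intro a b ha hb hab
      obtain ⟨α, β, hαβ⟩ := h1 a ha
      rw [lin1] at hαβ
      set l : k[X] := C α * X + C β with hl
      have ha0 : a ≠ 0 := by
        rintro rfl
        exact hM0 (by rw [hab, zero_mul])
      have hb0 : b ≠ 0 := by
        rintro rfl
        exact hM0 (by rw [hab, mul_zero])
      have hl0 : l ≠ 0 := by
        intro h
        exact ha0 (by rw [hαβ, h, C_0, map_zero, mul_zero])
      obtain ⟨p, q', hb'⟩ := hspan _ b hb
      have e : ev k ζ (x / y) (C r * X + C q) + ω * ev k ζ (x / y) 0 =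
          ev k ζ (x / y) (C l * p) + ω * ev k ζ (x / y) (C l * q') := by
        have hyM : y ^ ((m + 1 : ℕ) : ℤ) ≠ 0 := zpow_ne_zero _ hy0
        apply mul_left_cancel₀ hyM
        rw [map_zero, mul_zero, add_zero, ← hMr, hab, hαβ, hb', map_mul, map_mul, Nat.cast_add, Nat.cast_one,
          zpow_add₀ hy0, zpow_one]
        ring
      obtain ⟨e1, e2⟩ := pair_inj _ _ _ _ e
      have hq' : q' = 0 := (mul_eq_zero.1 e2.symm).resolve_left (fun h => hl0 (C_eq_zero.1 h))
      have hp0 : p ≠ 0 := by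
        rintro rfl
        rw [mul_zero] at e1
        exact lin_ne_zero hr e1
      have hp1 : p.natDegree ≤ 1 := by
        have := congrArg natDegree e1
        rw [natDegree_lin hr, natDegree_mul (fun h => hl0 (C_eq_zero.1 h)) hp0, natDegree_C] at this
        omega
      have hp := eq_X_add_C_of_natDegree_le_one hp1
      have hr' : p.coeff 1 ≠ 0 := by
        intro h
        have := congrArg (fun f => coeff f 1) e1
        simp only [coeff_C_mul, h, mul_zero, coeff_add, coeff_C_mul, coeff_X_one, mul_one, coeff_C_of_ne_zero one_ne_zero,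
          add_zero] at this
        exact hr this
      refine ih (by omega) b hb (p.coeff 1) (p.coeff 0) hr' ?_ ?_
      · rw [← hp, hb', hq', map_zero, mul_zero, add_zero]
      · have h3 : u₁ * u₂ / b = a * (u₁ * u₂ / M) := by
          rw [hab]
          field_simp
        rw [h3]
        exact mul_mem' ha hdvd (by push_cast; ring)
    by_cases H : ∀ (i j : ℤ) (a b : L), 0 < i → 0 < j → i + j = ((m + 1 : ℕ) : ℤ) → a ∈ G.V i → b ∈ G.V j →
      M ≠ a * b
    · rcases G.prime (by positivity) hM hM0 H 6 6 u₁ u₂ h₁ h₂ (by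
        rw [show (6 + 6 - ((m + 1 : ℕ) : ℤ)) = 12 - ((m + 1 : ℕ) : ℤ) by ring]
        exact hdvd) with h | h
      · exact nodiv _ M r q hr hMr hM0 u₁ n₁ s₁ hs₁ hu₁ h
      · exact nodiv _ M r q hr hMr hM0 u₂ n₂ s₂ hs₂ hu₂ h
    · push Not at H
      obtain ⟨i, j, a, b, hi, hj, hij, ha, hb, hab⟩ := H
      have hcases : i = 1 ∨ j = 1 ∨ (i = 2 ∧ j = 2) := by push_cast at hij; omega
      rcases hcases with rfl | rfl | ⟨rfl, rfl⟩
      · refine step a b ha ?_ hab
        have : j = (m : ℤ) := by push_cast at hij; omega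
        rwa [this] at hb
      · refine step b a hb ?_ (by rw [hab, mul_comm])
        have : i = (m : ℤ) := by push_cast at hij; omega
        rwa [this] at ha
      · have hm3 : (m : ℤ) = 3 := by push_cast at hij; omega
        -- splitting of an element without `ζ`
        have split : ∀ (a b : L), b ∈ G.V 2 → M = a * b → ∀ q : k[X], q.natDegree ≤ 2 →
            a = y ^ 2 * ev k ζ (x / y) (C q) → False := by
          intro a b hb hab q hq hq2
          obtain ⟨α, β, γ, δ, hqq⟩ := exists_linear_mul q hq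
          have e : a = (α • x + β • y) * (γ • x + δ • y) := by
            rw [hq2, hqq, lin1, lin1, C_mul, map_mul]
            ring
          have hV : ∀ α β : k, α • x + β • y ∈ G.V 1 := fun α β =>
            Submodule.add_mem _ (Submodule.smul_mem _ _ hx) (Submodule.smul_mem _ _ hy)
          exact step (α • x + β • y) ((γ • x + δ • y) * b) (hV _ _) (mul_mem' (hV _ _) hb (by omega))
            (by rw [hab, e, mul_assoc])
        obtain ⟨c, q₁, hq₁, ha'⟩ := h2 a ha
        obtain ⟨d, q₂, hq₂, hb'⟩ := h2 b hb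
        have e : ev k ζ (x / y) (C r * X + C q) =
            ev k ζ (x / y) ((C (C c) * X + C q₁) * (C (C d) * X + C q₂)) := by
          have hyM : y ^ ((m + 1 : ℕ) : ℤ) ≠ 0 := zpow_ne_zero _ hy0
          apply mul_left_cancel₀ hyM
          rw [← hMr, hab, ha', hb', map_mul]
          have : y ^ ((m + 1 : ℕ) : ℤ) = y ^ 2 * y ^ 2 := by
            have hm4 : ((m + 1 : ℕ) : ℤ) = ((4 : ℕ) : ℤ) := by push_cast; omega
            rw [hm4, zpow_natCast]
            ring
          rw [this]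
          ring
        have e' := congrArg (fun f => coeff f 2) (ev_inj _ _ e)
        have e'' : C c * C d = 0 := by
          have h5 : (C (C c) * X + C q₁) * (C (C d) * X + C q₂) =
              C (C c * C d) * X ^ 2 + C (C c * q₂ + q₁ * C d) * X + C (q₁ * q₂) := by
            simp only [C_mul, C_add]
            ring
          have h6 : coeff (C (C c * C d) * X ^ 2 + C (C c * q₂ + q₁ * C d) * X + C (q₁ * q₂) : k[X][X]) 2 =
              C c * C d := by
            rw [coeff_add, coeff_add, coeff_C_mul, coeff_X_pow_self, mul_one, coeff_C_mul,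
              coeff_X_of_ne_one (by norm_num), mul_zero, coeff_C_of_ne_zero (by norm_num), add_zero, add_zero]
          have h7 : coeff (C r * X + C q : k[X][X]) 2 = 0 := by
            rw [coeff_add, coeff_C_mul, coeff_X_of_ne_one (by norm_num), mul_zero, coeff_C_of_ne_zero (by norm_num),
              add_zero]
          rw [h5] at e'
          rw [← h6, ← h7]
          exact e'.symm
        rw [← C_mul, C_eq_zero, mul_eq_zero] at e''
        rcases e'' with rfl | rfl
        · exact split a b hb hab q₁ hq₁ (by rw [ha']; simp)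
        · exact split b a ha (by rw [hab, mul_comm]) q₂ hq₂ (by rw [hb']; simp)

/-- NODE DIV. -/
theorem false_of_dvd {k L : Type*} [Field k] [IsAlgClosed k] [CharZero k] [Field L] [Algebra k L] {G : Gr k L}
    {x y : L} (hx : x ∈ G.V 1) (hy : y ∈ G.V 1) (hy0 : y ≠ 0) (ζ ω : L)
    (h1 : ∀ f ∈ G.V 1, ∃ a b : k, f = a • x + b • y)
    (h2 : ∀ f ∈ G.V 2, ∃ (c : k) (q : k[X]), q.natDegree ≤ 2 ∧ f = y ^ 2 * ev k ζ (x / y) (C (C c) * X + C q))
    (hspan : ∀ (n : ℤ), ∀ f ∈ G.V n, ∃ p q : k[X][X], f = y ^ n * (ev k ζ (x / y) p + ω * ev k ζ (x / y) q))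
    (hinj : ∀ p q : k[X][X], ev k ζ (x / y) p + ω * ev k ζ (x / y) q = 0 → p = 0 ∧ q = 0)
    {m : ℤ} (hm : m ≤ 4) {M : L} (hM : M ∈ G.V m) (r q : k[X]) (hr : r ≠ 0)
    (hMr : M = y ^ m * ev k ζ (x / y) (C r * X + C q))
    {u₁ u₂ : L} (h₁ : u₁ ∈ G.V 6) (h₂ : u₂ ∈ G.V 6) (n₁ n₂ s₁ s₂ : k[X]) (hs₁ : s₁ ≠ 0) (hs₂ : s₂ ≠ 0)
    (hu₁ : u₁ = y ^ 6 * (ev k ζ (x / y) (C n₁) + ω * ev k ζ (x / y) (C s₁)))
    (hu₂ : u₂ = y ^ 6 * (ev k ζ (x / y) (C n₂) + ω * ev k ζ (x / y) (C s₂)))
    (hdvd : u₁ * u₂ / M ∈ G.V (12 - m)) : False := by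
  rcases lt_or_ge m 0 with hneg | hpos
  · have h0 := G.eq_zero_of_neg m hneg M hM
    rw [hMr, mul_eq_zero] at h0
    rcases h0 with h | h
    · exact zpow_ne_zero _ hy0 h
    · exact lin_ne_zero hr (hinj _ 0 (by rw [h, map_zero, mul_zero, add_zero])).1
  · lift m to ℕ using hpos
    exact false_of_dvd_aux hx hy hy0 ζ ω h1 h2 hspan hinj h₁ h₂ n₁ n₂ s₁ s₂ hs₁ hs₂ hu₁ hu₂ m
      (by exact_mod_cast hm) M hM r q hr hMr hdvd

end K674.ZDiv
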