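import Groth.Agent.Surf.K460.ZGeo
import Groth.Agent.S6545
import Groth.Agent.Old.H24.LinearSeries
import Groth.Agent.Fga.PicMon
import Groth.Agent.CurvesC.RegNormal
import Groth.Agent.CurvesB.SubEuler

/-!
# Node TORS of the case `d = 1` of S15911

* `unitAt_of_sq`: on a normal integral scheme a rational function whose square is a unit at `x` is a unit at `x`;
* `exists_two_torsion`: a nontrivial invertible module with trivial square on a smooth proper curve of genus `≥ 1`;
* `exists_tors`: the same in the language of Cartier cocycles, with the Riemann–Roch bound for a twist.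
-/

set_option autoImplicit false
universe u
open CategoryTheory CategoryTheory.Limits AlgebraicGeometry TopologicalSpace Opposite

namespace K674.Tors

open Groth.Agent Groth.Agent.Fdesc.LocGen Groth.Agent.Lefpen.H725.CocDef Groth.Agent.Lefpen.H521.CartierCoc
open K801.Cousin K801.CousinH1 K801.LEq Groth.Agent.Surf.K460.ZSec Groth.Agent.Surf.K460.ZCurve

attribute [local instance] algK

section Normal

variable {X : Scheme.{u}} [IsIntegral X]

theorem regAt_of_pow {x : X} [IsIntegrallyClosed (X.presheaf.stalk x)] {v : X.functionField} {n : ℕ} (hn : 0 < n)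
    (h : RegAt x (v ^ n)) : RegAt x v := by
  rw [regAt_iff] at h ⊢
  obtain ⟨s, hs⟩ := h
  obtain ⟨t, ht⟩ := IsIntegrallyClosed.exists_algebraMap_eq_of_isIntegral_pow (R := X.presheaf.stalk x) hn
    (x := v) (by rw [← hs]; exact isIntegral_algebraMap)
  exact ⟨t, ht⟩

theorem unitAt_of_sq {x : X} [IsIntegrallyClosed (X.presheaf.stalk x)] {v : X.functionField}
    (h : UnitAt x (v ^ 2)) : UnitAt x v := by
  have h0 : v ≠ 0 := by
    rintro rfl
    exact unitAt_ne_zero h (by norm_num)
  have h1 : RegAt x v := regAt_of_pow two_pos (unitAt_regAt h)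
  refine unitAt_of_regAt h1 (regAt_mul h1 (unitAt_regAt (unitAt_inv h))) ?_
  field_simp

end Normal

variable (k : Type u) [Field k] [IsAlgClosed k] {B : Scheme.{u}}
    [B.Over (Spec (CommRingCat.of k))] [IsIntegral B] [IsProper (B ↘ Spec (CommRingCat.of k))]
    [Smooth (B ↘ Spec (CommRingCat.of k))]

include k in
omit [IsAlgClosed k] [IsIntegral B] [IsProper (B ↘ Spec (CommRingCat.of k))] in
theorem isIntegrallyClosed_stalk (x : B) : IsIntegrallyClosed (B.presheaf.stalk x) := by
  have : IsRegularLocalRing (B.presheaf.stalk x) :=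
    Groth.Agent.VarietyA.RegSmoothSch.isRegularLocalRing_stalk_of_mem_smoothLocus (B ↘ Spec (CommRingCat.of k)) x
      (by rw [(B ↘ Spec (CommRingCat.of k)).smoothLocus_eq_top]; trivial)
  exact CurvesC.RegNormal.isIntegrallyClosed _

theorem exists_two_torsion (h2 : (2 : k) ≠ 0) (hdim : topologicalKrullDim B = 1) (hg : 1 ≤ Curv2.genus k B) :
    ∃ η : B.Modules, PicF.IsInvertible η ∧ Nonempty (CohB1.tensorPow η 2 ≅ Coh.structureModule B) ∧
      ¬ Nonempty (η ≅ Coh.structureModule B) := by
  by_contra hne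
  push Not at hne
  have h1 := Groth.Agent.S6545.result k B hdim 2 (by exact_mod_cast isUnit_iff_ne_zero.2 h2)
  have h3 : {c : PicF.Cl B | ∃ M : Scheme.Modules B, PicF.cl M = c ∧ PicF.IsInvertible M ∧
      Nonempty (CohB1.tensorPow M 2 ≅ Coh.structureModule B)} ⊆ {PicF.cl (Coh.structureModule B)} := by
    rintro c ⟨M, rfl, hM, hM2⟩
    exact (Fga.PicMon.cl_eq_iff M _).2 (hne M hM hM2)
  have h4 := Nat.card_mono (Set.finite_singleton _) h3
  rw [h1, Nat.card_unique] at h4
  have h5 : 2 ^ 1 ≤ 2 ^ (2 * Curv2.genus k B) := Nat.pow_le_pow_right two_pos (by omega)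
  omega

/-- NODE TORS: a two-torsion class on a smooth proper curve, in cocycle form -/
theorem exists_tors (k : Type u) [Field k] [IsAlgClosed k] [CharZero k] {B : Scheme.{u}}
    [B.Over (Spec (CommRingCat.of k))] [IsIntegral B] [IsProper (B ↘ Spec (CommRingCat.of k))]
    [Smooth (B ↘ Spec (CommRingCat.of k))] (hdim : topologicalKrullDim B = 1) (hg : 1 ≤ Curv2.genus k B)
    {M : B.Modules} (hM : PicF.IsInvertible M) {δ : B → B.functionField} (hδ : HasCoc M δ) :
    ∃ (ε : B → B.functionField) (g : B.functionField), (∀ b, ε b ≠ 0) ∧ g ≠ 0 ∧ (∀ b, UnitAt b (ε b ^ 2 / g)) ∧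
      (∀ m : B.functionField, g ≠ m ^ 2) ∧
      Curv2.deg k B M 1 + 1 - Curv2.genus k B ≤ (Module.finrank k (secs k (fun b => ε b * δ b)) : ℤ) := by
  have : IsNoetherian B := CurvesB.CurveRR.isNoetherian_of_proper k B
  obtain ⟨η, hη, ⟨φ⟩, hη1⟩ := exists_two_torsion k (two_ne_zero) hdim hg
  obtain ⟨ε, hε⟩ := exists_hasCoc hη
  obtain ⟨c, hc, hu⟩ := Lefpen.H718.CocIso.exists_const_of_iso (hasCoc_pow hε 2) hasCoc_one φ
  refine ⟨ε, c⁻¹, hε.1, inv_ne_zero hc, fun b => ?_, fun m hm => hη1 ?_, ?_⟩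
  · have h1 := hu b
    rwa [div_one, mul_comm, ← div_inv_eq_mul] at h1
  · have hm0 : m ≠ 0 := by
      rintro rfl
      exact inv_ne_zero hc (by rw [hm]; norm_num)
    refine hasCoc_iso hε hasCoc_one m⁻¹ (inv_ne_zero hm0) fun b => ?_
    have := isIntegrallyClosed_stalk k b
    apply unitAt_of_sq
    have h1 := hu b
    have h2 : c = (m⁻¹) ^ 2 := by rw [inv_pow, ← hm, inv_inv]
    rw [div_one, h2, ← mul_pow] at h1
    rwa [div_one]
  · have h1 := finrank_secs k (hasCoc_tensor hε hδ)
    have hd := hdim.le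
    have h2 := CurvesB.CurveRR.deg_eq k B hd (CohB1.tensorMod η M)
    have h3 := Old.H24.LinearSeries.deg_tensor k hd hη hM
    have h4 := Old.H24.LinearSeries.deg_tensorPow k hd hη 2
    have h5 : Curv2.deg k B (CohB1.tensorPow η 2) 1 = 0 := by
      rw [CurvesB.SubEuler.deg_congr k φ 1]
      simp [Curv2.deg]
    rw [VarietyA.CurveFin.finrank_h0_structure k B] at h2
    rw [h1]
    push_cast at h4 h2
    linarith

end K674.Tors
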